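import Cfsg.Agent.H932.DM.Tools
import Cfsg.Agent.H932.PS11.Lift
import Cfsg.Agent.H700.DM.Basic
import Cfsg.Agent.H887.DM.Low
import Cfsg.Agent.OrdDiv.Main
import Cfsg.Agent.H495.Cod.Basic
import Cfsg.Agent.H704.Enum
import Cfsg.Agent.H464.PslDeg
import Cfsg.Agent.H621.SymDeg.Chars
import Cfsg.Agent.Intrinsic.WZeroFour
import Cfsg.Agent.SporadicRecognition.AltCover
import Cfsg.Agent.S0892
import Cfsg.Agent.S2493
import Cfsg.Agent.S0144
import Cfsg.Agent.S0252
import Cfsg.Agent.S0253
import Cfsg.Agent.S0254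
import Cfsg.Agent.S0255
import Cfsg.Agent.S0256

/-!
# S4907, exceptional row `2.A₈` (helper932, DM21)

`row_a8`: a group with the same character degrees as `2.A₈` is isomorphic to `2.A₈`.
-/

set_option autoImplicit false
set_option linter.unusedSectionVars false

namespace Cfsg.Agent.H932.DM

open Cfsg Subgroup Equiv
open scoped commutatorElement
open Cfsg.Agent.H700.DM
open Cfsg.Agent.OrdDiv (OrderTable cands ordN Real)
open Cfsg.Agent.SporRec.TwoAn (Cover)

universe u v

/-! ### the degrees of `2.A₈` -/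

section Faithful

variable {H : Type v} [Group H] [Finite H]

/-- the elements of the two quaternion groups -/
theorem four_dvd_faithful (K : Cover (Fin 8) H) {χ : H → ℂ} (hχ : IsIrrCharacter H χ) (h : χ K.z = - χ 1) :
    4 ∣ charDegree χ := by
  obtain ⟨a, ha⟩ := K.exists_lift (Cover.swap_mul_swap_mem (0 : Fin 8) 1 2 3 (by decide) (by decide))
  obtain ⟨b, hb⟩ := K.exists_lift (Cover.swap_mul_swap_mem (0 : Fin 8) 2 1 3 (by decide) (by decide))
  obtain ⟨c, hc⟩ := K.exists_lift (Cover.swap_mul_swap_mem (4 : Fin 8) 5 6 7 (by decide) (by decide))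
  obtain ⟨d, hd⟩ := K.exists_lift (Cover.swap_mul_swap_mem (4 : Fin 8) 6 5 7 (by decide) (by decide))
  have hab := K.anticomm (a := 0) (b := 1) (c := 2) (d := 3) (by decide) (by decide) (by decide) (by decide)
    (by decide) (by decide) ha hb
  have hcd := K.anticomm (a := 4) (b := 5) (c := 6) (d := 7) (by decide) (by decide) (by decide) (by decide)
    (by decide) (by decide) hc hd
  have hdis : ∀ x y : H, K.π x = swap (0 : Fin 8) 1 * swap 2 3 ∨ K.π x = swap (0 : Fin 8) 2 * swap 1 3 →
      K.π y = swap (4 : Fin 8) 6 * swap 5 7 → x * y = y * x := by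
    intro x y hx hy
    refine K.commute_of_disjoint ?_
    rw [hy]
    rcases hx with hx | hx <;> rw [hx, Perm.disjoint_iff_disjoint_support] <;> decide
  exact four_dvd hχ (z := K.z) (mem_center_iff.2 fun g => K.z_comm g) h
    (K.dbl _ _ _ _ (by decide) (by decide) (by decide) (by decide) (by decide) (by decide) b hb)
    (K.dbl _ _ _ _ (by decide) (by decide) (by decide) (by decide) (by decide) (by decide) a ha)
    (K.dbl _ _ _ _ (by decide) (by decide) (by decide) (by decide) (by decide) (by decide) d hd)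
    (K.dbl _ _ _ _ (by decide) (by decide) (by decide) (by decide) (by decide) (by decide) c hc)
    hab hcd (hdis b d (Or.inr hb) hd) (hdis a d (Or.inl ha) hd)

/-- The kernel of a central element: the value is `± χ(1)` at a central involution. -/
theorem central_sign {G : Type u} [Group G] [Finite G] {χ : G → ℂ} (hχ : IsIrrCharacter G χ) {z : G}
    (hz : z ∈ center G) (hzz : z * z = 1) : χ z = χ 1 ∨ χ z = - χ 1 := by
  obtain ⟨c, hc⟩ := PS11.central_mul hχ hz
  have h1 : χ 1 ≠ 0 := Cfsg.Agent.Characters.Core.isIrr_apply_one_ne_zero hχ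
  have h2 : χ z = c * χ 1 := by rw [← hc 1, mul_one]
  have h3 : χ 1 = c * (c * χ 1) := by rw [← h2, ← hc, hzz]
  have h4 : c * c = 1 := mul_right_cancel₀ h1 (by rw [one_mul, mul_assoc]; exact h3.symm)
  rcases mul_self_eq_one_iff.1 h4 with h5 | h5
  · left; rw [h2, h5, one_mul]
  · right; rw [h2, h5, neg_one_mul]

end Faithful

/-- `A₈` has no irreducible degree `3`, `5`, `6`. -/
theorem not_hasDeg_alt {d : ℕ} (hd : d = 3 ∨ d = 5 ∨ d = 6) : ¬ HasDeg d ↥(alternatingGroup (Fin 8)) := by
  rintro ⟨χ, hχ⟩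
  have h1 : H495.Cod.ADeg 8 d := by
    refine ⟨χ, ?_, hχ⟩
    intro h
    rw [h] at hχ
    have : charDegree (1 : ↥(alternatingGroup (Fin 8)) → ℂ) = 1 := by simp [charDegree]
    omega
  obtain ⟨-, -, -, h2⟩ := h1.facts (by norm_num)
  rcases h2 with h2 | h2
  · have h3 := H704.deg8 h2
    simp only [List.mem_cons, List.not_mem_nil, or_false] at h3
    omega
  · have h3 := H704.deg8 h2
    simp only [List.mem_cons, List.not_mem_nil, or_false] at h3
    omega

/-- The factorisation of an irreducible character over a quotient. -/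
theorem hasDeg_quotient {G : Type u} [Group G] [Finite G] (N : Subgroup G) [N.Normal] {χ : IrrCharacter G}
    (h : ∀ g ∈ N, (χ : G → ℂ) g = (χ : G → ℂ) 1) : HasDeg (charDegree (χ : G → ℂ)) (G ⧸ N) := by
  obtain ⟨ψ, hψ⟩ := H686.CharKit.exists_infl N χ (fun g hg => h g hg)
  refine ⟨ψ, ?_⟩
  rw [← hψ]
  rfl

/-- A double cover of `A₈` has no irreducible degree `3`, `5`, `6`. -/
theorem not_hasDeg {H : Type v} [Group H] [Finite H] (hq : IsQuasisimple H)
    (e : H ⧸ center H ≃* ↥(alternatingGroup (Fin 8))) (hc : Nat.card (center H) = 2) {d : ℕ}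
    (hd : d = 3 ∨ d = 5 ∨ d = 6) : ¬ HasDeg d H := by
  rintro ⟨χ, hχ⟩
  obtain ⟨K⟩ := Intrinsic.WZeroFour.nonempty_cover (by norm_num)
    (S2493.nonsplit hq.1.commutator_eq_top hc e)
  have hz : K.z ∈ center H := mem_center_iff.2 fun g => K.z_comm g
  rcases central_sign χ.2 hz K.z_mul_z with h | h
  · refine not_hasDeg_alt hd ?_
    rw [← hχ]
    refine (hasDeg_quotient (center H) ?_).congr e.symm
    intro g hg
    rcases (K.mem_center_iff (by norm_num)).1 hg with rfl | rfl
    · rfl
    · exact h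
  · have h4 := four_dvd_faithful K χ.2 h
    rw [hχ] at h4
    omega

/-! ### the simple quotients -/

theorem hasDeg_of_mem {K : Type*} [Group K] {n : ℕ} (h : n ∈ charDegrees K) : HasDeg n K := by
  obtain ⟨χ, hχ⟩ := h
  exact ⟨χ, hχ⟩

theorem hasDeg_alt {n : ℕ} (hn : 5 ≤ n) {K : Type u} [Group K] (e : K ≃* ↥(alternatingGroup (Fin n))) :
    HasDeg (n - 1) K := by
  obtain ⟨ψ, hψ, h1⟩ := H621.SymDeg.alt_irr hn e
  exact ⟨⟨ψ, hψ⟩, Blocks.Basic.charDegree_of_eq h1⟩

/-- The known simple groups of order dividing `40320`. -/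
theorem quot_cases (OT : OrderTable.{u}) {K : Type u} [Group K] [Finite K] (hK : IsKnownSimple' K)
    (hna : ¬ ∀ a b : K, a * b = b * a) (hd : Nat.card K ∣ 40320) :
    HasDeg 5 K ∨ HasDeg 6 K ∨ Nat.card K = 504 ∨ Nonempty (K ≃* ↥(alternatingGroup (Fin 8))) ∨
      Nat.card K = 20160 ∧ ∃ (F : Type) (_ : Field F) (_ : Fintype F), Fintype.card F = 4 ∧
        Nonempty (K ≃* Matrix.ProjectiveSpecialLinearGroup (Fin 3) F) := by
  obtain ⟨g, hg, hr, ho⟩ := OrdDiv.exists_good OT hK hna (l := [(2, 7), (3, 2), (5, 1), (7, 1)]) (N := 40320)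
    (by decide +kernel) hd
  rw [show cands [(2, 7), (3, 2), (5, 1), (7, 1)] 40320 = [.alt 5, .alt 6, .alt 7, .alt 8, .psl 3 2, .psl 4 2,
    .psl 2 4, .psl 3 4, .psl 2 8, .psl 2 9, .psl 2 5, .psl 2 7] by decide +kernel] at hg
  have h5 : ∀ {F : Type} [Field F] [Fintype F], Fintype.card F = 5 →
      (K ≃* Matrix.ProjectiveSpecialLinearGroup (Fin 2) F) → HasDeg 5 K := fun hF e =>
    (hasDeg_of_mem (H464.PslDeg.psl_four_five hF).2).congr e
  have h7 : ∀ {F : Type} [Field F] [Fintype F], Fintype.card F = 7 →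
      (K ≃* Matrix.ProjectiveSpecialLinearGroup (Fin 2) F) → HasDeg 6 K := fun hF e => by
    have := (H464.PslDeg.psl_degrees (by rw [hF])).2
    rw [hF] at this
    exact (hasDeg_of_mem this).congr e
  have hp5 : Fact (Nat.Prime 5) := ⟨by norm_num⟩
  have hp7 : Fact (Nat.Prime 7) := ⟨by norm_num⟩
  simp only [List.mem_cons, List.not_mem_nil, or_false] at hg
  rcases hg with rfl | rfl | rfl | rfl | rfl | rfl | rfl | rfl | rfl | rfl | rfl | rfl
  · obtain ⟨e⟩ := hr
    obtain ⟨f⟩ := S0253.result (F := ZMod 5) (ZMod.card 5)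
    exact Or.inl (h5 (ZMod.card 5) (e.trans f.symm))
  · obtain ⟨e⟩ := hr
    exact Or.inl (hasDeg_alt (by norm_num) e)
  · obtain ⟨e⟩ := hr
    exact Or.inr (Or.inl (hasDeg_alt (by norm_num) e))
  · exact Or.inr (Or.inr (Or.inr (Or.inl hr)))
  · obtain ⟨F, _, _, hF, ⟨e⟩⟩ := hr
    obtain ⟨f⟩ := S0255.result (F := ZMod 7) (K := F) (ZMod.card 7) hF
    exact Or.inr (Or.inl (h7 (ZMod.card 7) (e.trans f.symm)))
  · obtain ⟨F, _, _, hF, ⟨e⟩⟩ := hr
    obtain ⟨f⟩ := S0256.result (F := F) hF
    exact Or.inr (Or.inr (Or.inr (Or.inl ⟨e.trans f⟩)))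
  · obtain ⟨F, _, _, hF, ⟨e⟩⟩ := hr
    obtain ⟨f⟩ := S0252.result (F := F) hF
    obtain ⟨f'⟩ := S0253.result (F := ZMod 5) (ZMod.card 5)
    exact Or.inl (h5 (ZMod.card 5) ((e.trans f).trans f'.symm))
  · obtain ⟨F, _, _, hF, h⟩ := hr
    exact Or.inr (Or.inr (Or.inr (Or.inr ⟨ho.trans (by decide +kernel), F, inferInstance, inferInstance, hF, h⟩)))
  · right; right; left
    rw [ho]
    decide +kernel
  · obtain ⟨F, _, _, hF, ⟨e⟩⟩ := hr
    obtain ⟨f⟩ := S0254.result (F := F) hF
    exact Or.inl (hasDeg_alt (by norm_num) (e.trans f))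
  · obtain ⟨F, _, _, hF, ⟨e⟩⟩ := hr
    exact Or.inl (h5 hF e)
  · obtain ⟨F, _, _, hF, ⟨e⟩⟩ := hr
    exact Or.inr (Or.inl (h7 hF e))

/-- `L₃(4)` has no irreducible degree `7`. -/
theorem not_hasDeg_seven {F : Type} [Field F] [Fintype F] (hF : Fintype.card F = 4) {K : Type u} [Group K] [Finite K]
    [IsSimpleGroup K] (hna : ¬ ∀ a b : K, a * b = b * a)
    (e : K ≃* Matrix.ProjectiveSpecialLinearGroup (Fin 3) F) : ¬ HasDeg 7 K := by
  have hp2 : Fact (Nat.Prime 2) := ⟨Nat.prime_two⟩
  have hF2 : CharP F 2 := by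
    obtain ⟨p, hp⟩ := CharP.exists F
    have : Fact p.Prime := ⟨CharP.char_is_prime F p⟩
    obtain ⟨n, hpp, hn⟩ := FiniteField.card F p
    have h1 : p ∣ 4 := by rw [← hF, hn]; exact dvd_pow_self p n.ne_zero
    have h2 : p ∣ 2 := hpp.dvd_of_dvd_pow (n := 2) (by norm_num; exact h1)
    have h3 := (Nat.prime_dvd_prime_iff_eq hpp Nat.prime_two).1 h2
    subst h3
    exact hp
  have hcen : center K = ⊥ := by
    rcases (inferInstance : (center K).Normal).eq_bot_or_eq_top with h | h
    · exact h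
    · exfalso
      apply hna
      intro a b
      have : a ∈ center K := by rw [h]; trivial
      exact (mem_center_iff.1 this b).symm
  let ε : K ⧸ center K ≃* K := (QuotientGroup.quotientMulEquivOfEq hcen).trans QuotientGroup.quotientBot
  have hq : IsQuasisimple K := by
    refine ⟨⟨?_⟩, ?_⟩
    · rcases (inferInstance : (commutator K).Normal).eq_bot_or_eq_top with h | h
      · exfalso
        apply hna
        intro a b
        have h1 : ⁅a, b⁆ ∈ commutator K := by
          rw [_root_.commutator_def]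
          exact Subgroup.commutator_mem_commutator trivial trivial
        rw [h, mem_bot] at h1
        exact commutatorElement_eq_one_iff_mul_comm.1 h1
      · exact h
    · have : Nontrivial (K ⧸ center K) := ε.toEquiv.nontrivial
      exact IsSimpleGroup.isSimpleGroup_of_surjective ε.symm.toMonoidHom ε.symm.surjective
  have h1 := H887.DM.low_psl (F := F) (p := 2) hq (by rw [hcen, Subgroup.card_bot]; norm_num) (n := 3) le_rfl
    (ε.trans e)
  rw [hF] at h1
  rintro ⟨χ, hχ⟩
  rcases h1 χ with h | h <;> rw [hχ] at h <;> norm_num at h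

/-- **DM21**: the exceptional row `2.A₈`. -/
theorem row_a8 {G : Type u} {H : Type v} [Group G] [Finite G] [Group H] [Finite H] (OT : OrderTable.{u})
    (hS : ∀ (X : Type u) [Group X] [Finite X] [IsSimpleGroup X], IsKnownSimple' X)
    (hH : IsQuasisimple H) (e : H ⧸ center H ≃* ↥(alternatingGroup (Fin 8))) (h2 : 2 ∣ Nat.card (center H))
    (hd : SameDeg G H) : Nonempty (G ≃* H) := by
  have hperfH : commutator H = ⊤ := hH.1.commutator_eq_top
  have hc : Nat.card (center H) = 2 := by
    have h1 := S0892.result 8 (by norm_num) (by norm_num) (by norm_num) (center H) le_rfl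
      (by rw [hperfH]; exact le_top) e
    have h3 : 0 < Nat.card (center H) := Nat.card_pos
    obtain ⟨k, hk⟩ := h2
    omega
  have hA8 : Nat.card ↥(alternatingGroup (Fin 8)) = 20160 := by
    have := H495.Cod.two_mul_aN (n := 8) (by norm_num)
    rw [H495.Cod.aN] at this
    have h5 : Nat.factorial 8 = 40320 := rfl
    omega
  have hcH : Nat.card H = 40320 := by
    rw [Subgroup.card_eq_card_quotient_mul_card_subgroup (center H), hc, Nat.card_congr e.toEquiv, hA8]
  have hcG : Nat.card G = 40320 := hd.card_eq.trans hcH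
  have hperf : commutator G = ⊤ := (hd.perfect hH.1).commutator_eq_top
  have hnt : Nontrivial G := by
    rw [← Finite.one_lt_card_iff_nontrivial, hcG]
    norm_num
  obtain ⟨N, hN, hsimple⟩ := H655.PrimeNormal.exists_simple_quotient G
  have hna : ¬ ∀ a b : G ⧸ N, a * b = b * a := by
    intro hcomm
    have h1 : commutator G ≤ N := by
      rw [_root_.commutator_def, Subgroup.commutator_le]
      intro a _ b _
      rw [← QuotientGroup.eq_one_iff]
      have h3 : (QuotientGroup.mk ⁅a, b⁆ : G ⧸ N) = ⁅(QuotientGroup.mk a : G ⧸ N), QuotientGroup.mk b⁆ := rfl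
      rw [h3]
      exact commutatorElement_eq_one_iff_mul_comm.2 (hcomm _ _)
    rw [hperf, top_le_iff] at h1
    have h3 : Subsingleton (G ⧸ N) := by
      rw [h1]
      exact QuotientGroup.subsingleton_quotient_top
    exact not_subsingleton (G ⧸ N) h3
  have hcN := Subgroup.card_eq_card_quotient_mul_card_subgroup N
  rw [hcG] at hcN
  have hinf : ∀ {d : ℕ}, HasDeg d (G ⧸ N) → HasDeg d H := fun h =>
    hd.hasDeg.1 (h.inflate (f := QuotientGroup.mk' N) (QuotientGroup.mk'_surjective N))
  rcases quot_cases OT (hS (G ⧸ N)) hna ⟨_, hcN⟩ with h | h | h | ⟨⟨f⟩⟩ | ⟨hcK, F, _, _, hF, ⟨f⟩⟩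
  · exact absurd (hinf h) (not_hasDeg hH e hc (by norm_num))
  · exact absurd (hinf h) (not_hasDeg hH e hc (by norm_num))
  · exfalso
    rw [h] at hcN
    have hcN' : Nat.card N = 80 := by omega
    have hp5 : Fact (Nat.Prime 5) := ⟨by norm_num⟩
    refine not_dvd_of_solvable (p := 5) (Nat.card G) G le_rfl hperf (by rw [hcG]; norm_num) N
      (S0144.result 2 5 4 1 (by norm_num) (by norm_num) (by rw [hcN']; norm_num)) ?_
    rw [hcN']
    norm_num
  · -- `A₈`
    have hcN' : Nat.card N = 2 := by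
      rw [Nat.card_congr f.toEquiv, hA8] at hcN
      omega
    have hcyc : IsCyclic N := isCyclic_of_prime_card (hp := ⟨Nat.prime_two⟩) hcN'
    have hNc := H655.PrimeNormal.le_center_of_isCyclic hperf N inferInstance hcyc
    have hcen : center G = N := by
      refine le_antisymm ?_ hNc
      intro x hx
      rw [← QuotientGroup.eq_one_iff]
      have h1 : (x : G ⧸ N) ∈ center (G ⧸ N) := by
        rw [mem_center_iff]
        intro y
        obtain ⟨y, rfl⟩ := QuotientGroup.mk_surjective y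
        rw [← QuotientGroup.mk_mul, ← QuotientGroup.mk_mul, mem_center_iff.1 hx y]
      have h3 : center (G ⧸ N) = ⊥ := by
        rcases (inferInstance : (center (G ⧸ N)).Normal).eq_bot_or_eq_top with h | h
        · exact h
        · exfalso
          apply hna
          intro a b
          have : a ∈ center (G ⧸ N) := by rw [h]; trivial
          exact (mem_center_iff.1 this b).symm
      rw [h3, mem_bot] at h1
      exact h1
    subst hcen
    obtain ⟨π₁, z₁, hc₁, -⟩ := SporadicRecognition.AltCover.exists_isCover (S2493.nonsplit hperf hcN' f)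
    obtain ⟨π₂, z₂, hc₂, -⟩ := SporadicRecognition.AltCover.exists_isCover (S2493.nonsplit hperfH hc e)
    obtain ⟨ψ, -, -⟩ := SporadicRecognition.AltCover.exists_mulEquiv (by norm_num) hc₁ hc₂
    exact ⟨ψ⟩
  · -- `L₃(4)`
    exfalso
    rw [hcK] at hcN
    have hcN' : Nat.card N = 2 := by omega
    have hcyc : IsCyclic N := isCyclic_of_prime_card (hp := ⟨Nat.prime_two⟩) hcN'
    have hNc := H655.PrimeNormal.le_center_of_isCyclic hperf N inferInstance hcyc
    have h7 : HasDeg 7 H := ((hasDeg_alt (n := 8) (by norm_num)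
      (MulEquiv.refl ↥(alternatingGroup (Fin 8)))).congr e).inflate (f := QuotientGroup.mk' (center H))
      (QuotientGroup.mk'_surjective (center H))
    obtain ⟨χ, hχ⟩ := hd.hasDeg.2 h7
    obtain ⟨w, hw1, hw2⟩ := (Nat.card_eq_two_iff' (1 : N)).1 hcN'
    have hww : (w : G) * w = 1 := by
      have h1 : w ^ Nat.card N = 1 := pow_card_eq_one'
      rw [hcN', pow_two] at h1
      exact congrArg Subtype.val h1
    rcases central_sign χ.2 (hNc w.2) hww with h | h
    · refine not_hasDeg_seven hF hna f ?_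
      rw [← hχ]
      refine hasDeg_quotient N ?_
      intro g hg
      by_cases hg1 : (⟨g, hg⟩ : N) = 1
      · rw [show g = 1 from congrArg Subtype.val hg1]
      · have h3 := hw2 ⟨g, hg⟩ hg1
        rw [show g = (w : G) from congrArg Subtype.val h3]
        exact h
    · have h3 := PS11.dvd_degree (r := 2) hperf (hNc w.2) (ω := -1) (IsPrimitiveRoot.neg_one 0 (by norm_num)) χ.2 (by
        rw [PS11.Ov, h, neg_one_mul])
      rw [hχ] at h3
      omega

end Cfsg.Agent.H932.DM
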