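import Mathlib
import Cfsg.Agent.H655.PrimeNormal
import Cfsg.Agent.OddOrderLocal.FreeAction
import Cfsg.Agent.Characters.Central
import Cfsg.Agent.H686.CharKit

/-!
# Tools for the row `2.A₈` of S4907 (helper932, DM21)

* `not_dvd_of_solvable`: `G` perfect, `p ^ 2 ∤ |G|`, `M` a solvable normal subgroup: `p ∤ |M|`;
* `four_dvd`: a character `χ` with `χ(z g) = -χ(g)` of a group containing two commuting quaternion groups with the common
  central involution `z` has degree divisible by `4`.
-/

set_option autoImplicit false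
set_option linter.unusedSectionVars false

namespace Cfsg.Agent.H932.DM

open Cfsg Subgroup
open scoped commutatorElement

universe u v

section Group

/-- A perfect group has no normal subgroup which is a Sylow subgroup of prime order. -/
theorem false_of_normal_sylow {G : Type u} [Group G] [Finite G] (hG : commutator G = ⊤) {p : ℕ} [hp : Fact p.Prime]
    (h2 : ¬ p ^ 2 ∣ Nat.card G) (A : Subgroup G) [A.Normal] (hA : Nat.card A = p) : False := by
  have hcyc : IsCyclic A := isCyclic_of_prime_card hA
  have hc := H655.PrimeNormal.le_center_of_isCyclic hG A inferInstance hcyc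
  obtain ⟨P, hP⟩ := (IsPGroup.of_card (n := 1) (by rw [hA, pow_one]) : IsPGroup p A).exists_le_sylow
  have hPc : Nat.card (P : Subgroup G) = p := by
    obtain ⟨k, hk⟩ := IsPGroup.iff_card.1 P.2
    have h1 : p ∣ Nat.card (P : Subgroup G) := (dvd_of_eq hA.symm).trans (Subgroup.card_dvd_of_le hP)
    have h3 : k < 2 := by
      by_contra hlt
      push Not at hlt
      exact h2 (((pow_dvd_pow p hlt).trans (dvd_of_eq hk.symm)).trans (Subgroup.card_subgroup_dvd_card _))
    interval_cases k
    · rw [hk, pow_zero] at h1
      exact absurd (Nat.dvd_one.1 h1) hp.out.one_lt.ne'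
    · rw [hk, pow_one]
  have hPcomm : IsMulCommutative (P : Subgroup G) := by
    have := isCyclic_of_prime_card hPc
    exact IsCyclic.isMulCommutative
  have h4 : A = ⊥ := by
    rw [Subgroup.eq_bot_iff_forall]
    intro x hx
    refine OddOrderLocal.FreeAction.eq_one_of_mem_sylow_center_commutator P hPcomm (hP hx) (hc hx) ?_
    rw [hG]
    trivial
  rw [h4, Subgroup.card_bot] at hA
  exact hp.out.one_lt.ne hA

/-- In a perfect group whose order is not divisible by `p ^ 2` the solvable normal subgroups have order prime to `p`. -/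
theorem not_dvd_of_solvable {p : ℕ} [hp : Fact p.Prime] (n : ℕ) : ∀ (G : Type u) [Group G] [Finite G], Nat.card G ≤ n →
    commutator G = ⊤ → ¬ p ^ 2 ∣ Nat.card G → ∀ (M : Subgroup G) [M.Normal], Group.IsSolvable M →
    ¬ p ∣ Nat.card M := by
  induction n with
  | zero =>
    intro G _ _ hn
    exact absurd hn (by have := Nat.card_pos (α := G); omega)
  | succ n ih =>
    intro G _ _ hn hG h2 M _ hM hdvd
    -- a nontrivial abelian normal subgroup of `G` in `M`
    have hMb : M ≠ ⊥ := by
      rintro rfl
      rw [Subgroup.card_bot] at hdvd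
      exact hp.out.one_lt.ne' (Nat.dvd_one.1 hdvd)
    obtain ⟨D, hDn, hDM, hDb, hDc⟩ : ∃ D : Subgroup G, D.Normal ∧ D ≤ M ∧ D ≠ ⊥ ∧ IsMulCommutative D := by
      have hnt : Nontrivial M := (Subgroup.nontrivial_iff_ne_bot M).2 hMb
      classical
      obtain ⟨k, hk⟩ := hM.solvable
      have hex : ∃ k, derivedSeries M k = ⊥ := ⟨k, hk⟩
      have hk0 : Nat.find hex ≠ 0 := by
        intro h0
        have h1 := Nat.find_spec hex
        rw [h0, derivedSeries_zero] at h1
        exact top_ne_bot h1
      obtain ⟨j, hj⟩ := Nat.exists_eq_succ_of_ne_zero hk0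
      have h1 : derivedSeries M j ≠ ⊥ := Nat.find_min hex (by omega)
      have h3 : derivedSeries M (j + 1) = ⊥ := by
        have := Nat.find_spec hex
        rw [hj] at this
        exact this
      have hch : (derivedSeries M j).Characteristic := derivedSeries_characteristic M j
      refine ⟨(derivedSeries M j).map M.subtype, ConjAct.normal_of_characteristic_of_normal, Subgroup.map_subtype_le _,
        ?_, ?_⟩
      · rw [Ne, Subgroup.map_eq_bot_iff_of_injective _ M.subtype_injective]
        exact h1
      · refine ⟨⟨?_⟩⟩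
        rintro ⟨_, a, ha, rfl⟩ ⟨_, b, hb, rfl⟩
        apply Subtype.ext
        have h4 : ⁅a, b⁆ ∈ derivedSeries M (j + 1) := by
          rw [derivedSeries_succ]
          exact Subgroup.commutator_mem_commutator ha hb
        rw [h3, Subgroup.mem_bot, commutatorElement_eq_one_iff_mul_comm] at h4
        exact congrArg M.subtype h4
    by_cases hpD : p ∣ Nat.card D
    · obtain ⟨P⟩ : Nonempty (Sylow p D) := inferInstance
      have hPn : (P : Subgroup D).Normal := ⟨fun x hx g => by
        rw [hDc.is_comm.comm g x, mul_inv_cancel_right]; exact hx⟩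
      have hPch : (P : Subgroup D).Characteristic := P.characteristic_of_normal hPn
      have hPG : ((P : Subgroup D).map D.subtype).Normal := ConjAct.normal_of_characteristic_of_normal
      refine false_of_normal_sylow hG h2 ((P : Subgroup D).map D.subtype) (p := p) ?_
      have hcard : Nat.card ((P : Subgroup D).map D.subtype) = Nat.card (P : Subgroup D) :=
        Nat.card_congr ((P : Subgroup D).equivMapOfInjective _ D.subtype_injective).toEquiv.symm
      rw [hcard]
      obtain ⟨k, hk⟩ := IsPGroup.iff_card.1 P.2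
      have h5 : p ∣ Nat.card (P : Subgroup D) := P.dvd_card_of_dvd_card hpD
      have h3 : k < 2 := by
        by_contra hlt
        push Not at hlt
        exact h2 (((pow_dvd_pow p hlt).trans (dvd_of_eq hk.symm)).trans
          ((Subgroup.card_subgroup_dvd_card _).trans (Subgroup.card_subgroup_dvd_card _)))
      interval_cases k
      · rw [hk, pow_zero] at h5
        exact absurd (Nat.dvd_one.1 h5) hp.out.one_lt.ne'
      · rw [hk, pow_one]
    · have hcG := Subgroup.card_eq_card_quotient_mul_card_subgroup D
      have hD1 : 1 < Nat.card D := Subgroup.one_lt_card_iff_ne_bot D |>.2 hDb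
      have hQ : 0 < Nat.card (G ⧸ D) := Nat.card_pos
      have hperf : commutator (G ⧸ D) = ⊤ := by
        have h1 := map_commutator (⊤ : Subgroup G) ⊤ (QuotientGroup.mk' D)
        rw [← _root_.commutator_def, hG] at h1
        rw [_root_.commutator_def, ← MonoidHom.range_eq_top.2 (QuotientGroup.mk'_surjective D), MonoidHom.range_eq_map]
        exact h1.symm
      have hMn : (M.map (QuotientGroup.mk' D)).Normal :=
        Subgroup.Normal.map inferInstance _ (QuotientGroup.mk'_surjective D)
      have hsol : Group.IsSolvable (M.map (QuotientGroup.mk' D)) := by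
        have := hM
        exact Group.isSolvable_of_surjective ((QuotientGroup.mk' D).subgroupMap_surjective M)
      refine ih (G ⧸ D) (by nlinarith) hperf (fun h => h2 (h.trans ⟨_, hcG⟩)) (M.map (QuotientGroup.mk' D)) hsol ?_
      have h6 : Nat.card M = Nat.card (M.map (QuotientGroup.mk' D)) * Nat.card D := by
        have h7 := Subgroup.card_mul_index (D.subgroupOf M)
        have h8 : Nat.card (D.subgroupOf M) = Nat.card D := Nat.card_congr (Subgroup.subgroupOfEquivOfLe hDM).toEquiv
        have h9 : (D.subgroupOf M).index = Nat.card (M.map (QuotientGroup.mk' D)) := by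
          have h10 : D.subgroupOf M = ((QuotientGroup.mk' D).comp M.subtype).ker := by
            ext x
            rw [Subgroup.mem_subgroupOf, MonoidHom.mem_ker, MonoidHom.comp_apply, QuotientGroup.mk'_apply,
              QuotientGroup.eq_one_iff]
            rfl
          rw [h10, Subgroup.index_ker, MonoidHom.range_comp, Subgroup.range_subtype]
        rw [← h7, h8, h9, mul_comm]
      rw [h6] at hdvd
      exact (hp.out.dvd_mul.1 hdvd).resolve_right hpD

end Group

section Rep

open Module

/-- Two commuting pairs of anticommuting operators of square `-1`: the dimension is divisible by four. -/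
theorem four_dvd_finrank {V : Type*} [AddCommGroup V] [Module ℂ V] [FiniteDimensional ℂ V]
    (A B C D : Module.End ℂ V) (hA : A * A = -1) (hB : B * B = -1) (hC : C * C = -1) (hD : D * D = -1)
    (hAB : A * B = - (B * A)) (hCD : C * D = - (D * C)) (hAC : A * C = C * A)
    (hBC : B * C = C * B) : 4 ∣ Module.finrank ℂ V := by
  have htr : ∀ X Y : Module.End ℂ V, Y * Y = -1 → X * Y = - (Y * X) → LinearMap.trace ℂ V X = 0 := by
    intro X Y hY hXY
    have h1 : Y * X * Y = X := by
      rw [mul_assoc, hXY, mul_neg, ← mul_assoc, hY, neg_mul, neg_neg, one_mul]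
    have h2 : LinearMap.trace ℂ V (Y * X * Y) = LinearMap.trace ℂ V (Y * Y * X) := by
      rw [LinearMap.trace_mul_comm, ← mul_assoc]
    rw [h1, hY, neg_mul, one_mul, map_neg] at h2
    have h3 : (2 : ℂ) * LinearMap.trace ℂ V X = 0 := by linear_combination h2
    simpa using h3
  have tA := htr A B hB hAB
  have tC := htr C D hD hCD
  have tAC : LinearMap.trace ℂ V (A * C) = 0 := by
    refine htr (A * C) B hB ?_
    rw [mul_assoc, ← hBC, ← mul_assoc, hAB, neg_mul, mul_assoc]
  -- the projections
  set P : Module.End ℂ V := (2⁻¹ : ℂ) • (1 - Complex.I • A) with hP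
  set Q : Module.End ℂ V := (2⁻¹ : ℂ) • (1 - Complex.I • C) with hQ
  have hidem : ∀ X : Module.End ℂ V, X * X = -1 →
      ((2⁻¹ : ℂ) • (1 - Complex.I • X)) * ((2⁻¹ : ℂ) • (1 - Complex.I • X)) = (2⁻¹ : ℂ) • (1 - Complex.I • X) := by
    intro X hX
    have h1 : (1 - Complex.I • X) * (1 - Complex.I • X) = (2 : ℂ) • (1 - Complex.I • X) := by
      rw [mul_sub, sub_mul, sub_mul, one_mul, mul_one, one_mul, smul_mul_smul_comm, hX, Complex.I_mul_I]
      rw [neg_smul, one_smul, neg_neg, two_smul]
      abel
    rw [smul_mul_smul_comm, h1, smul_smul]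
    congr 1
    norm_num
  have hPP := hidem A hA
  have hQQ := hidem C hC
  have hPQ : P * Q = Q * P := by
    rw [hP, hQ, smul_mul_smul_comm, smul_mul_smul_comm]
    congr 1
    rw [mul_sub, sub_mul, sub_mul, mul_sub, sub_mul, sub_mul, one_mul, mul_one, one_mul, mul_one, one_mul,
      smul_mul_smul_comm, smul_mul_smul_comm, hAC]
    abel
  have hR : IsIdempotentElem (P * Q) := by
    show P * Q * (P * Q) = P * Q
    calc P * Q * (P * Q) = P * (Q * P) * Q := by simp only [mul_assoc]
      _ = P * (P * Q) * Q := by rw [hPQ]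
      _ = (P * P) * (Q * Q) := by simp only [mul_assoc]
      _ = P * Q := by rw [hPP, hQQ]
  have htrace : LinearMap.trace ℂ V (P * Q) = (Module.finrank ℂ V : ℂ) / 4 := by
    have h1 : P * Q = (4⁻¹ : ℂ) • (1 - Complex.I • A - Complex.I • C - A * C) := by
      rw [hP, hQ, smul_mul_smul_comm]
      have h2 : (1 - Complex.I • A) * (1 - Complex.I • C) = 1 - Complex.I • A - Complex.I • C - A * C := by
        rw [mul_sub, sub_mul, sub_mul, one_mul, mul_one, one_mul, smul_mul_smul_comm, Complex.I_mul_I, neg_smul,
          one_smul]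
        abel
      rw [h2]
      congr 1
      norm_num
    rw [h1, map_smul, map_sub, map_sub, map_sub, map_smul, map_smul, tA, tC, tAC, LinearMap.trace_one, smul_zero,
      smul_eq_mul]
    ring
  have hrank : LinearMap.trace ℂ V (P * Q) = (Module.finrank ℂ (LinearMap.range (P * Q)) : ℂ) := by
    have h1 : LinearMap.IsProj (LinearMap.range (P * Q)) (P * Q) := by
      refine ⟨fun x => ⟨x, rfl⟩, ?_⟩
      rintro _ ⟨y, rfl⟩
      exact LinearMap.congr_fun hR y
    exact h1.trace
  rw [htrace] at hrank
  refine ⟨Module.finrank ℂ (LinearMap.range (P * Q)), ?_⟩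
  have h3 : (Module.finrank ℂ V : ℂ) = 4 * (Module.finrank ℂ (LinearMap.range (P * Q)) : ℂ) := by
    rw [← hrank]; ring
  exact_mod_cast h3

/-- The degree of a character lying over the sign character of `⟨z⟩`. -/
theorem four_dvd {G : Type u} [Group G] [Finite G] {χ : G → ℂ} (hχ : IsIrrCharacter G χ) {z : G} (hz : z ∈ center G)
    (hneg : χ z = - χ 1) {a b c d : G} (ha : a * a = z) (hb : b * b = z) (hc : c * c = z) (hd : d * d = z)
    (hab : a * b = b * a * z) (hcd : c * d = d * c * z) (hac : a * c = c * a)
    (hbc : b * c = c * b) : 4 ∣ charDegree χ := by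
  have h0 := Cfsg.Agent.H686.CharKit.charDegree_cast (Cfsg.Agent.Characters.Core.isIrr_isCharacter hχ)
  have h1 : χ 1 ≠ 0 := Cfsg.Agent.Characters.Core.isIrr_apply_one_ne_zero hχ
  obtain ⟨n, ρ, hρ, rfl⟩ := hχ
  obtain ⟨s, hs⟩ := Cfsg.Agent.Characters.Central.exists_smul_of_comm ρ hρ (ρ z) fun g => by
    rw [← map_mul, ← map_mul, Subgroup.mem_center_iff.1 hz g]
  have h2 : ρ.character z = s * ρ.character 1 := by
    show LinearMap.trace ℂ _ (ρ z) = s * LinearMap.trace ℂ _ (ρ 1)
    rw [map_one, hs, map_smul, smul_eq_mul]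
  have h3 : s = -1 := mul_right_cancel₀ h1 (by rw [← h2, hneg]; ring)
  have hz1 : ∀ v, ρ z v = -v := by
    intro v
    rw [hs, h3]
    show (-1 : ℂ) • v = -v
    exact neg_one_smul ℂ v
  have hsq : ∀ x : G, x * x = z → ρ x * ρ x = -1 := by
    intro x hx
    refine LinearMap.ext fun v => ?_
    rw [← map_mul, hx]
    exact hz1 v
  have hanti : ∀ x y : G, x * y = y * x * z → ρ x * ρ y = - (ρ y * ρ x) := by
    intro x y hxy
    refine LinearMap.ext fun v => ?_
    rw [← map_mul, ← map_mul, hxy, map_mul]
    show ρ (y * x) (ρ z v) = - (ρ (y * x) v)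
    rw [hz1, map_neg]
  have h4 := four_dvd_finrank (ρ a) (ρ b) (ρ c) (ρ d) (hsq a ha) (hsq b hb) (hsq c hc) (hsq d hd) (hanti a b hab)
    (hanti c d hcd) (by rw [← map_mul, hac, map_mul]) (by rw [← map_mul, hbc, map_mul])
  have h5 : charDegree ρ.character = Module.finrank ℂ (Fin n → ℂ) := by
    rw [Representation.char_one] at h0
    exact_mod_cast h0
  rw [h5]
  exact h4

end Rep

end Cfsg.Agent.H932.DM
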